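import Mathlib.RingTheory.PicardGroup
import Mathlib.LinearAlgebra.Matrix.GeneralLinearGroup.Defs
import Mathlib.LinearAlgebra.Matrix.ToLin
import Mathlib.LinearAlgebra.Contraction
import Mathlib.Algebra.Algebra.Equiv

/-!
# Automorphisms of matrix algebras and invertible modules
-/

universe u

open TensorProduct

namespace Groth.Agent.Lib.Pic99.Morita

variable {R : Type u} [CommRing R] {n : ℕ}

section Act

variable (N : Type u) [AddCommGroup N] [Module R N]

/-- Matrices act on `N^n`. -/
def act : Matrix (Fin n) (Fin n) R →ₐ[R] Module.End R (Fin n → N) :=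
  AlgHom.ofLinearMap
    { toFun := fun A =>
        { toFun := fun x i => ∑ j, A i j • x j
          map_add' := fun x y => by funext i; simp [Finset.sum_add_distrib]
          map_smul' := fun c x => by funext i; simp [Finset.smul_sum, smul_comm c] }
      map_add' := fun A B => LinearMap.ext fun x => by funext i; simp [add_smul, Finset.sum_add_distrib]
      map_smul' := fun c A => LinearMap.ext fun x => by funext i; simp [mul_smul, Finset.smul_sum] }
    (LinearMap.ext fun x => by funext i; simp [Matrix.one_apply])
    (fun A B => LinearMap.ext fun x => by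
      funext i
      simp only [LinearMap.coe_mk, AddHom.coe_mk, Module.End.mul_apply, Matrix.mul_apply, Finset.sum_smul,
        Finset.smul_sum, mul_smul]
      exact Finset.sum_comm)

theorem act_apply (A : Matrix (Fin n) (Fin n) R) (x : Fin n → N) (i : Fin n) :
    act N A x i = ∑ j, A i j • x j := rfl

theorem act_single (A : Matrix (Fin n) (Fin n) R) (j : Fin n) (z : N) (i : Fin n) :
    act N A (Pi.single j z) i = A i j • z := by
  classical
  rw [act_apply, Finset.sum_eq_single j]
  · simp
  · intro b _ hb; simp [Pi.single_eq_of_ne hb]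
  · simp

theorem act_bijective [Module.Invertible R N] : Function.Bijective (act (R := R) (n := n) N) := by
  classical
  refine ⟨fun A B h => ?_, fun T => ?_⟩
  · ext i j
    refine (Module.Invertible.toModuleEnd_bijective R N).injective (LinearMap.ext fun z => ?_)
    have := congr_fun (LinearMap.congr_fun h (Pi.single j z)) i
    simpa [act_single] using this
  · choose A hA using fun i j => (Module.Invertible.toModuleEnd_bijective R N).surjective
      (LinearMap.proj i ∘ₗ T ∘ₗ LinearMap.single R (fun _ => N) j)
    refine ⟨Matrix.of A, LinearMap.pi_ext fun j z => ?_⟩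
    funext i
    rw [act_single]
    exact LinearMap.congr_fun (hA i j) z

end Act

theorem single_mul_single' (a b c d : Fin n) (A : Matrix (Fin n) (Fin n) R) :
    (Matrix.single a b (1 : R) * A * Matrix.single c d (1 : R)) = A b c • Matrix.single a d (1 : R) := by
  classical
  ext i j
  simp [Matrix.mul_apply, Matrix.single_apply, ite_and]
  split_ifs <;> rfl

theorem mul_single_eq_sum (A : Matrix (Fin n) (Fin n) R) (j d : Fin n) :
    A * Matrix.single j d (1 : R) = ∑ i, A i j • Matrix.single i d (1 : R) := by
  classical
  ext i l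
  simp [Matrix.mul_apply, Matrix.single_apply, Matrix.sum_apply, ite_and]

theorem inner_iff (n : ℕ) (hn : 1 ≤ n) :
    (∀ φ : Matrix (Fin n) (Fin n) R ≃ₐ[R] Matrix (Fin n) (Fin n) R,
        ∃ P : GL (Fin n) R, ∀ A : Matrix (Fin n) (Fin n) R, φ A = P.1 * A * (P⁻¹).1) ↔
      (∀ (N : Type u) [AddCommGroup N] [Module R N] [Module.Invertible R N],
        Nonempty ((Fin n → N) ≃ₗ[R] (Fin n → R)) → Module.Free R N) := by
  classical
  let o : Fin n := ⟨0, hn⟩
  constructor
  · intro h N _ _ _ ⟨e⟩
    let ψ := AlgEquiv.ofBijective (act (R := R) (n := n) N) (act_bijective N)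
    let φ : Matrix (Fin n) (Fin n) R ≃ₐ[R] Matrix (Fin n) (Fin n) R :=
      (ψ.trans (e.conjAlgEquiv R)).trans LinearMap.toMatrixAlgEquiv'
    obtain ⟨P, hP⟩ := h φ
    let e' : (Fin n → N) ≃ₗ[R] (Fin n → R) :=
      e ≪≫ₗ Matrix.toLin'OfInv (M := P.1) (M' := (P⁻¹).1) P.mul_inv P.inv_mul
    have hint : ∀ (A : Matrix (Fin n) (Fin n) R) (x : Fin n → N), e' (act N A x) = A.mulVec (e' x) := by
      intro A x
      have h1 : Matrix.toLin' (φ A) (e x) = e (act N A x) := by
        show Matrix.toLinAlgEquiv' (LinearMap.toMatrixAlgEquiv' (e.conjAlgEquiv R (act N A))) (e x) = _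
        rw [Matrix.toLinAlgEquiv'_toMatrixAlgEquiv']
        simp
      show Matrix.toLin' (P⁻¹).1 (e (act N A x)) = A.mulVec (Matrix.toLin' (P⁻¹).1 (e x))
      rw [← h1, hP]
      simp only [Matrix.toLin'_apply, Matrix.mulVec_mulVec, ← mul_assoc, Units.inv_mul, one_mul]
    have hsingle : ∀ z : N, act N (Matrix.single o o (1 : R)) (Pi.single o z) = Pi.single o z := by
      intro z
      funext i
      rw [act_single]
      by_cases hi : i = o
      · subst hi; simp
      · simp [Matrix.single_apply, hi, Ne.symm hi]
    have hmul : ∀ v : Fin n → R, (Matrix.single o o (1 : R)).mulVec v = Pi.single o (v o) := by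
      intro v
      funext i
      by_cases hi : i = o
      · subst hi; simp [Matrix.mulVec, dotProduct, Matrix.single_apply]
      · simp [Matrix.mulVec, dotProduct, Matrix.single_apply, hi, Ne.symm hi]
    let u : N →ₗ[R] R := LinearMap.proj o ∘ₗ e'.toLinearMap ∘ₗ LinearMap.single R (fun _ => N) o
    have hu : ∀ z, e' (Pi.single o z) = Pi.single o (u z) := by
      intro z
      have := hint (Matrix.single o o (1 : R)) (Pi.single o z)
      rw [hsingle, hmul] at this
      exact this
    refine Module.Free.of_equiv (LinearEquiv.ofBijective u ⟨fun a b hab => ?_, fun r => ?_⟩).symm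
    · exact Pi.single_injective o (e'.injective (by rw [hu, hu, hab]))
    · obtain ⟨x, hx⟩ := e'.surjective (Pi.single o r)
      refine ⟨x o, ?_⟩
      have h2 := hint (Matrix.single o o (1 : R)) x
      rw [hx, hmul, Pi.single_eq_same] at h2
      have h3 : act N (Matrix.single o o (1 : R)) x = Pi.single o (x o) := by
        funext i
        rw [act_apply]
        by_cases hi : i = o
        · subst hi; simp [Matrix.single_apply]
        · simp [Matrix.single_apply, hi, Ne.symm hi]
      rw [h3, hu] at h2
      exact Pi.single_injective o h2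
  · intro h φ
    let F : Fin n → Fin n → Module.End R (Fin n → R) := fun a b => Matrix.toLinAlgEquiv' (φ (Matrix.single a b (1 : R)))
    have hF : ∀ a b c d, F a b * F c d = if b = c then F a d else 0 := by
      intro a b c d
      simp only [F, ← map_mul]
      split_ifs with hbc
      · subst hbc; rw [Matrix.single_mul_single_same, one_mul]
      · rw [Matrix.single_mul_single_of_ne _ _ _ _ hbc, map_zero, map_zero]
    have hsum : ∑ a, F a a = 1 := by
      simp only [F, ← map_sum]
      rw [Matrix.sum_single_one, map_one, map_one]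
    let N := LinearMap.range (F o o)
    have hmem : ∀ i (v : Fin n → R), F o i v ∈ N := fun i v => ⟨F o i v, by
      rw [← Module.End.mul_apply, hF, if_pos rfl]⟩
    have hfix : ∀ x ∈ N, F o o x = x := by
      rintro _ ⟨v, rfl⟩
      rw [← Module.End.mul_apply, hF, if_pos rfl]
    let e : (Fin n → N) ≃ₗ[R] (Fin n → R) :=
      { toFun := fun x => ∑ i, F i o (x i).1
        map_add' := fun x y => by simp [Finset.sum_add_distrib]
        map_smul' := fun c x => by simp [Finset.smul_sum]
        invFun := fun v i => ⟨F o i v, hmem i v⟩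
        left_inv := fun x => by
          funext i
          refine Subtype.ext ?_
          show F o i (∑ j, F j o (x j).1) = _
          rw [map_sum, Finset.sum_eq_single i]
          · rw [← Module.End.mul_apply, hF, if_pos rfl, hfix _ (x i).2]
          · intro j _ hj; rw [← Module.End.mul_apply, hF, if_neg (Ne.symm hj), LinearMap.zero_apply]
          · simp
        right_inv := fun v => by
          show ∑ i, F i o (F o i v) = v
          simp only [← Module.End.mul_apply, hF, if_true, ← LinearMap.sum_apply, hsum, Module.End.one_apply] }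
    have : Module.Finite R N := Module.Finite.of_surjective (F o o).rangeRestrict (F o o).surjective_rangeRestrict
    have : Module.Projective R N := Module.Projective.of_split N.subtype (F o o).rangeRestrict
      (LinearMap.ext fun x => Subtype.ext (hfix _ x.2))
    have hend : Function.Bijective (fun r : R => r • (LinearMap.id : N →ₗ[R] N)) := by
      refine ⟨fun r r' hrr => ?_, fun T => ?_⟩
      · have h1 : ∀ v : Fin n → R, r • v = r' • v := fun v => by
          have h2 : r • e.symm v = r' • e.symm v := funext fun i => LinearMap.congr_fun hrr (e.symm v i)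
          simpa using congrArg e h2
        simpa using congr_fun (h1 (fun _ => 1)) o
      · let T' : Module.End R (Fin n → R) := N.subtype ∘ₗ T ∘ₗ (F o o).rangeRestrict
        obtain ⟨A, hA⟩ : ∃ A, Matrix.toLinAlgEquiv' (φ A) = T' :=
          ⟨φ.symm (Matrix.toLinAlgEquiv'.symm T'), by simp⟩
        refine ⟨A o o, LinearMap.ext fun x => Subtype.ext ?_⟩
        have h1 : (F o o * T' * F o o) x.1 = (T x).1 := by
          have hx : (F o o).rangeRestrict (F o o x.1) = x := Subtype.ext (by
            show F o o (F o o x.1) = x.1
            rw [hfix _ x.2, hfix _ x.2])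
          show F o o (T ((F o o).rangeRestrict (F o o x.1))).1 = _
          rw [hx, hfix _ (T x).2]
        rw [← h1, ← hA]
        simp only [F, ← map_mul, single_mul_single', map_smul, LinearMap.smul_apply]
        show A o o • x.1 = _
        conv_lhs => rw [← hfix _ x.2]
    let eEnd : R ≃ₗ[R] (N →ₗ[R] N) := LinearEquiv.ofBijective (LinearMap.toSpanSingleton R _ LinearMap.id) hend
    have hinv : Module.Invertible R N :=
      Module.Invertible.right ((dualTensorHomEquiv R N N).trans eEnd.symm)
    have hfree := h N ⟨e⟩
    obtain ⟨d⟩ := Module.Invertible.free_iff_linearEquiv.mp hfree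
    let Ψ : (Fin n → R) ≃ₗ[R] (Fin n → R) := (LinearEquiv.piCongrRight fun _ : Fin n => d.symm).trans e
    let P0 := LinearMap.toMatrix' Ψ.toLinearMap
    let P : GL (Fin n) R := ⟨P0, LinearMap.toMatrix' Ψ.symm.toLinearMap,
      by rw [← LinearMap.toMatrix'_comp]; simp, by rw [← LinearMap.toMatrix'_comp]; simp⟩
    refine ⟨P, fun A => ?_⟩
    have key : φ A * P0 = P0 * A := by
      refine Matrix.toLin'.injective (LinearMap.ext fun v => ?_)
      rw [Matrix.toLin'_mul, Matrix.toLin'_mul, LinearMap.comp_apply, LinearMap.comp_apply,
        show Matrix.toLin' P0 = Ψ.toLinearMap from Matrix.toLin'_toMatrix' _]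
      show Matrix.toLinAlgEquiv' (φ A) (∑ i, F i o (d.symm (v i)).1) = ∑ i, F i o (d.symm (A.mulVec v i)).1
      rw [map_sum]
      have h2 : ∀ j, Matrix.toLinAlgEquiv' (φ A) (F j o (d.symm (v j)).1) = ∑ i, A i j • F i o (d.symm (v j)).1 := by
        intro j
        simp only [F]
        rw [← Module.End.mul_apply, ← map_mul, ← map_mul, mul_single_eq_sum, map_sum, map_sum, LinearMap.sum_apply]
        refine Finset.sum_congr rfl fun i _ => ?_
        rw [map_smul, map_smul]
        rfl
      simp only [h2, Matrix.mulVec, dotProduct, map_sum, ← smul_eq_mul, map_smul, Submodule.coe_sum,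
        Submodule.coe_smul]
      rw [Finset.sum_comm]
    calc φ A = φ A * P0 * (P⁻¹).1 := by rw [mul_assoc, show P0 * (P⁻¹).1 = 1 from P.mul_inv, mul_one]
      _ = P.1 * A * (P⁻¹).1 := by rw [key]

end Groth.Agent.Lib.Pic99.Morita
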