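import Mathlib.RingTheory.PicardGroup
import Mathlib.LinearAlgebra.Matrix.Determinant.Basic
import Mathlib.LinearAlgebra.Determinant
import Mathlib.LinearAlgebra.Multilinear.Curry

/-!
# `N^n ≅ R^n` forces `[N]^n = 1`
-/

universe u v

open TensorProduct

namespace Groth.Agent.Lib.Pic99.Power

variable {R : Type u} [CommRing R] {N : Type v} [AddCommGroup N] [Module R N] [Module.Invertible R N]

theorem functional_comm (f : Module.Dual R N) (a b : N) : f a • b = f b • a := by
  have h := congrArg (TensorProduct.lid R N ∘ TensorProduct.map f LinearMap.id)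
    (Module.Invertible.tmul_comm (R := R) (m₁ := a) (m₂ := b))
  simpa using h

omit [Module.Invertible R N] in
theorem eq_zero_of_forall_sq [Module.Invertible R N] {c : R} (h : ∀ (f : Module.Dual R N) (z : N), f z ^ 2 * c = 0) :
    c = 0 := by
  let J : Ideal R := Submodule.comap (LinearMap.mulRight R c) ⊥
  have hJ : ∀ (f : Module.Dual R N) (z : N), f z ∈ J.radical := fun f z => ⟨2, by simpa [J] using h f z⟩
  have htop : ∀ x : Module.Dual R N ⊗[R] N, Module.Invertible.linearEquiv R N x ∈ J.radical := by
    intro x
    induction x using TensorProduct.induction_on with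
    | zero => simp
    | tmul f z => simpa [Module.Invertible.linearEquiv] using hJ f z
    | add a b ha hb => rw [map_add]; exact add_mem ha hb
  have h1 : (1 : R) ∈ J.radical := by simpa using htop ((Module.Invertible.linearEquiv R N).symm 1)
  obtain ⟨k, hk⟩ := h1
  simpa [J] using hk

theorem alternating_eq_zero (B : N →ₗ[R] N →ₗ[R] R) (hB : ∀ z, B z z = 0) (a b : N) : B a b = 0 :=
  eq_zero_of_forall_sq (N := N) fun f z => by
    have h1 : f z • a = f a • z := functional_comm f z a
    have h2 : f z • b = f b • z := functional_comm f z b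
    have h3 : B (f z • a) (f z • b) = 0 := by rw [h1, h2]; simp [hB]
    simpa [pow_two, mul_assoc, mul_left_comm] using h3

theorem exists_eval (N : Type v) [AddCommGroup N] [Module R N] [Module.Invertible R N] : ∀ n : ℕ,
    ∃ (τ : (Fin n → N) → (CommRing.Pic.mk R N ^ n : CommRing.Pic R))
      (Λ : MultilinearMap R (fun _ : Fin n => N) R →ₗ[R] ((CommRing.Pic.mk R N ^ n : CommRing.Pic R) →ₗ[R] R)),
      ∀ g m, Λ g (τ m) = g m := by
  intro n
  induction n with
  | zero =>
    obtain ⟨e⟩ := (CommRing.Pic.mk_eq_one_iff (R := R) (M := ((CommRing.Pic.mk R N ^ 0 : CommRing.Pic R) : Type u))).mp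
      (by rw [CommRing.Pic.mk_eq_self, pow_zero])
    exact ⟨fun _ => e.symm 1,
      { toFun := fun g => g Fin.elim0 • e.toLinearMap
        map_add' := fun g g' => by simp [add_smul]
        map_smul' := fun c g => by simp [mul_smul] },
      fun g m => by simp [Subsingleton.elim m Fin.elim0]⟩
  | succ n ih =>
    obtain ⟨τ, Λ, h⟩ := ih
    obtain ⟨e⟩ := (CommRing.Pic.mk_eq_iff (R := R)
      (M := N ⊗[R] (CommRing.Pic.mk R N ^ n : CommRing.Pic R)) (N := (CommRing.Pic.mk R N ^ (n + 1) : CommRing.Pic R))).mp
      (by rw [CommRing.Pic.mk_tensor, CommRing.Pic.mk_eq_self, pow_succ'])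
    refine ⟨fun m => e (m 0 ⊗ₜ[R] τ (Fin.tail m)),
      { toFun := fun g => TensorProduct.lift (Λ ∘ₗ g.curryLeft) ∘ₗ e.symm.toLinearMap
        map_add' := fun g g' => by
          refine LinearMap.ext fun x => ?_
          simp only [LinearMap.comp_apply, LinearMap.add_apply, LinearEquiv.coe_toLinearMap]
          generalize e.symm x = y
          induction y using TensorProduct.induction_on with
          | zero => simp
          | tmul a b => simp [MultilinearMap.curryLeft, map_add] <;> (rw [← LinearMap.add_apply, ← map_add]; rfl)
          | add a b ha hb => simp only [map_add, ha, hb]; abel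
        map_smul' := fun c g => by
          refine LinearMap.ext fun x => ?_
          simp only [LinearMap.comp_apply, LinearMap.smul_apply, LinearEquiv.coe_toLinearMap, RingHom.id_apply]
          generalize e.symm x = y
          induction y using TensorProduct.induction_on with
          | zero => simp
          | tmul a b =>
            simp only [TensorProduct.lift.tmul, LinearMap.comp_apply]
            rw [show (c • g).curryLeft a = c • g.curryLeft a from rfl, map_smul, LinearMap.smul_apply]
          | add a b ha hb => simp only [map_add, ha, hb, smul_add] }, fun g m => ?_⟩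
    simp [h]

theorem pow_eq_one (n : ℕ) (e : (Fin n → N) ≃ₗ[R] (Fin n → R)) : CommRing.Pic.mk R N ^ n = 1 := by
  classical
  obtain ⟨τ, Λ, hΛ⟩ := exists_eval (R := R) N n
  let g : MultilinearMap R (fun _ : Fin n => N) R :=
    (Matrix.detRowAlternating (R := R) (n := Fin n)).toMultilinearMap.compLinearMap
      fun i => e.toLinearMap ∘ₗ LinearMap.single R (fun _ : Fin n => N) i
  let Φ := Λ g
  have hg : ∀ m : Fin n → N, g m ∈ LinearMap.range Φ := fun m => ⟨τ m, hΛ g m⟩
  have hsurj : (1 : R) ∈ LinearMap.range Φ := by
    have hy : (1 : Matrix (Fin n) (Fin n) R) = fun j => ∑ i, e (Pi.single i ((e.symm (Pi.single j 1)) i)) := by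
      funext j
      rw [← map_sum, Finset.univ_sum_single, e.apply_symm_apply]
      funext k
      rw [Matrix.one_apply, Pi.single_apply]
      simp [eq_comm]
    rw [← Matrix.det_one (n := Fin n) (R := R), hy]
    show (Matrix.detRowAlternating (R := R) (n := Fin n)).toMultilinearMap (fun j => ∑ i, _) ∈ _
    rw [MultilinearMap.map_sum]
    refine Submodule.sum_mem _ fun f _ => ?_
    by_cases hf : Function.Injective f
    · let σ : Equiv.Perm (Fin n) := Equiv.ofBijective f (Finite.injective_iff_bijective.mp hf)
      have h := (Matrix.detRowAlternating (R := R) (n := Fin n)).map_perm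
        (fun i => e (Pi.single i ((e.symm (Pi.single (σ.symm i) 1)) i))) σ
      have hfun : ((fun i => e (Pi.single i ((e.symm (Pi.single (σ.symm i) 1)) i))) ∘ σ) =
          fun j => e (Pi.single (f j) ((e.symm (Pi.single j 1)) (f j))) := by
        funext j
        simp [σ]
      rw [hfun] at h
      rw [AlternatingMap.coe_multilinearMap, h, Units.smul_def]
      exact zsmul_mem (hg fun i => (e.symm (Pi.single (σ.symm i) 1)) i) _
    · rw [Function.not_injective_iff] at hf
      obtain ⟨j, j', hjj', hne⟩ := hf
      let w : Fin n → Fin n → R := fun j => e (Pi.single (f j) ((e.symm (Pi.single j 1)) (f j)))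
      let ins : N →ₗ[R] (Fin n → R) := e.toLinearMap ∘ₗ LinearMap.single R (fun _ : Fin n => N) (f j)
      let D := (Matrix.detRowAlternating (R := R) (n := Fin n))
      let B : N →ₗ[R] N →ₗ[R] R := LinearMap.mk₂ R
        (fun a b => D (Function.update (Function.update w j' (ins b)) j (ins a)))
        (fun a a' b => by rw [map_add, AlternatingMap.map_update_add])
        (fun c a b => by rw [map_smul, AlternatingMap.map_update_smul])
        (fun a b b' => by
          simp only [map_add, fun z => Function.update_comm hne.symm z (ins a) w, AlternatingMap.map_update_add])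
        (fun c a b => by
          simp only [map_smul, fun z => Function.update_comm hne.symm z (ins a) w, AlternatingMap.map_update_smul])
      have hB : ∀ z, B z z = 0 := fun z => by
        simp only [B, LinearMap.mk₂_apply]
        exact D.map_eq_zero_of_eq _ (i := j) (j := j') (by simp [Function.update_of_ne hne.symm]) hne
      have hz := alternating_eq_zero B hB ((e.symm (Pi.single j 1)) (f j)) ((e.symm (Pi.single j' 1)) (f j))
      have hins : Function.update (Function.update w j' (ins ((e.symm (Pi.single j' 1)) (f j)))) j
          (ins ((e.symm (Pi.single j 1)) (f j))) = w := by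
        have h1 : ins ((e.symm (Pi.single j' 1)) (f j)) = w j' := by simp [ins, w, hjj']
        have h2 : ins ((e.symm (Pi.single j 1)) (f j)) = w j := by simp [ins, w]
        rw [h1, h2, Function.update_eq_self, Function.update_eq_self]
      simp only [B, LinearMap.mk₂_apply, hins] at hz
      rw [AlternatingMap.coe_multilinearMap]
      rw [show D w = 0 from hz]
      exact zero_mem _
  obtain ⟨x, hx⟩ := hsurj
  have hΦ : Function.Surjective Φ := fun r => ⟨r • x, by rw [map_smul, hx, smul_eq_mul, mul_one]⟩
  rw [← CommRing.Pic.mk_eq_self (M := CommRing.Pic.mk R N ^ n), CommRing.Pic.mk_eq_one_iff]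
  exact ⟨LinearEquiv.ofBijective Φ (Module.Invertible.bijective_of_surjective hΦ)⟩

end Groth.Agent.Lib.Pic99.Power
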