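import Mathlib.RingTheory.PicardGroup
import Mathlib.RingTheory.DedekindDomain.Basic
import Mathlib.RingTheory.HopkinsLevitzki
import Mathlib.RingTheory.Artinian.Ring
import Groth.Agent.Lib.Pic99.Power

/-!
# Sums of invertible modules over a Dedekind domain
-/

universe u v w

open TensorProduct

namespace Groth.Agent.Lib.Pic99.Steinitz

variable {R : Type u} [CommRing R]

theorem nonempty_prod_equiv_of_coprime {M : Type v} [AddCommGroup M] [Module R M] [Module.Invertible R M]
    {N : Type w} [AddCommGroup N] [Module R N] [Module.Invertible R N] (f : Module.Dual R M) (g : Module.Dual R N)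
    (m0 : M) (n0 : N) (h : f m0 + g n0 = 1) : Nonempty ((M × N) ≃ₗ[R] R × (M ⊗[R] N)) := by
  let φ : M × N →ₗ[R] R × (M ⊗[R] N) :=
    ((f.coprod g).prod ((TensorProduct.mk R M N).flip n0 ∘ₗ LinearMap.fst R M N -
      TensorProduct.mk R M N m0 ∘ₗ LinearMap.snd R M N))
  let K : M ⊗[R] N →ₗ[R] M × N :=
    ((TensorProduct.rid R M).toLinearMap ∘ₗ TensorProduct.map LinearMap.id g).prod
      (-((TensorProduct.lid R N).toLinearMap ∘ₗ TensorProduct.map f LinearMap.id))
  let ψ : R × (M ⊗[R] N) →ₗ[R] M × N :=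
    (LinearMap.toSpanSingleton R (M × N) (m0, n0)).coprod K
  have hψφ : ψ ∘ₗ φ = LinearMap.id := by
    refine LinearMap.ext fun x => ?_
    obtain ⟨x, y⟩ := x
    refine Prod.ext ?_ ?_
    · simp only [φ, ψ, K, LinearMap.comp_apply, LinearMap.prod_apply, Function.prod_apply, LinearMap.coprod_apply,
        LinearMap.toSpanSingleton_apply, LinearMap.sub_apply, LinearMap.fst_apply, LinearMap.snd_apply,
        TensorProduct.mk_apply, LinearMap.flip_apply, map_sub, TensorProduct.map_tmul, LinearEquiv.coe_toLinearMap,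
        TensorProduct.rid_tmul, LinearMap.id_coe, id_eq, Prod.fst_add, Prod.smul_fst, Prod.fst_sub]
      have h1 := Power.functional_comm f x m0
      have : f m0 • x + g n0 • x = x := by rw [← add_smul, h, one_smul]
      rw [add_smul, h1]
      conv_rhs => rw [← this]
      abel
    · simp only [φ, ψ, K, LinearMap.comp_apply, LinearMap.prod_apply, Function.prod_apply, LinearMap.coprod_apply,
        LinearMap.toSpanSingleton_apply, LinearMap.sub_apply, LinearMap.fst_apply, LinearMap.snd_apply,
        TensorProduct.mk_apply, LinearMap.flip_apply, map_sub, TensorProduct.map_tmul, LinearEquiv.coe_toLinearMap,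
        TensorProduct.lid_tmul, LinearMap.id_coe, id_eq, Prod.snd_add, Prod.smul_snd, Prod.snd_sub,
        LinearMap.neg_apply]
      have h1 := Power.functional_comm g y n0
      have : f m0 • y + g n0 • y = y := by rw [← add_smul, h, one_smul]
      rw [add_smul, h1]
      conv_rhs => rw [← this]
      abel
  have hφψ : φ ∘ₗ ψ = LinearMap.id := by
    refine LinearMap.prod_ext (LinearMap.ext_ring ?_) (TensorProduct.ext' fun x y => ?_)
    · simp [φ, ψ, h]
    · refine Prod.ext ?_ ?_
      · simp [φ, ψ, K, mul_comm]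
      · simp only [φ, ψ, K, LinearMap.comp_apply, LinearMap.inr_apply, LinearMap.prod_apply, Function.prod_apply,
          LinearMap.coprod_apply, map_zero, zero_add, TensorProduct.map_tmul, LinearEquiv.coe_toLinearMap,
          TensorProduct.rid_tmul, TensorProduct.lid_tmul, LinearMap.id_coe, id_eq, LinearMap.neg_apply,
          LinearMap.sub_apply, LinearMap.fst_apply, LinearMap.snd_apply, TensorProduct.mk_apply, LinearMap.flip_apply,
          TensorProduct.tmul_neg, sub_neg_eq_add]
        rw [TensorProduct.smul_tmul, ← Power.functional_comm g n0 y, TensorProduct.tmul_smul, TensorProduct.tmul_smul,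
          TensorProduct.smul_tmul', TensorProduct.smul_tmul', ← TensorProduct.add_tmul,
          Power.functional_comm f x m0, ← add_smul, add_comm, h, one_smul]
  exact ⟨LinearEquiv.ofLinearMap φ ψ hφψ hψφ⟩

theorem nonempty_prod_equiv [IsDedekindDomain R] (M : Type v) [AddCommGroup M] [Module R M] [Module.Invertible R M]
    (N : Type w) [AddCommGroup N] [Module R N] [Module.Invertible R N] :
    Nonempty ((M × N) ≃ₗ[R] R × (M ⊗[R] N)) := by
  obtain ⟨f, m1, hf⟩ : ∃ (f : Module.Dual R M) (m : M), f m ≠ 0 := by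
    by_contra hcon
    simp only [not_exists, not_not] at hcon
    have h0 : ∀ x : Module.Dual R M ⊗[R] M, Module.Invertible.linearEquiv R M x = 0 := fun x => by
      induction x using TensorProduct.induction_on with
      | zero => simp
      | tmul a b => simpa [Module.Invertible.linearEquiv] using hcon a b
      | add a b ha hb => rw [map_add, ha, hb, add_zero]
    have := h0 ((Module.Invertible.linearEquiv R M).symm 1)
    simp at this
  let a : Ideal R := LinearMap.range f
  have ha : a ≠ ⊥ := fun h0 => hf ((Submodule.eq_bot_iff _).mp h0 _ ⟨m1, rfl⟩)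
  have : IsNoetherianRing (R ⧸ a) :=
    isNoetherianRing_of_surjective R _ (Ideal.Quotient.mk a) Ideal.Quotient.mk_surjective
  have : IsArtinianRing (R ⧸ a) := by
    rw [isArtinianRing_iff_krullDimLE_zero, Ring.krullDimLE_zero_iff]
    intro P hP
    have hle : a ≤ P.comap (Ideal.Quotient.mk a) := fun x hx => by
      simp [Ideal.mem_comap, Ideal.Quotient.eq_zero_iff_mem.mpr hx]
    have hmax : (P.comap (Ideal.Quotient.mk a)).IsMaximal :=
      (Ideal.comap_isPrime (Ideal.Quotient.mk a) P).isMaximal fun h0 => ha (le_bot_iff.mp (h0 ▸ hle))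
    rw [← Ideal.map_comap_of_surjective _ Ideal.Quotient.mk_surjective P]
    refine (Ideal.map_eq_top_or_isMaximal_of_surjective _ Ideal.Quotient.mk_surjective hmax).resolve_left ?_
    rw [Ideal.map_comap_of_surjective _ Ideal.Quotient.mk_surjective P]
    exact hP.ne_top
  have hfree : Module.Free (R ⧸ a) ((R ⧸ a) ⊗[R] N) := inferInstance
  obtain ⟨e⟩ := Module.Invertible.free_iff_linearEquiv.mp hfree
  let q : N →ₗ[R] R ⧸ a := e.toLinearMap.restrictScalars R ∘ₗ TensorProduct.mk R (R ⧸ a) N 1
  have hq : Function.Surjective q := e.surjective.comp (TensorProduct.mk_surjective R N (R ⧸ a) Ideal.Quotient.mk_surjective)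
  obtain ⟨g, hg⟩ := Module.projective_lifting_property (Submodule.mkQ a) q (Submodule.mkQ_surjective a)
  obtain ⟨n0, hn0⟩ := hq 1
  have hmem : 1 - g n0 ∈ a := by
    have : Submodule.mkQ a (g n0) = 1 := by rw [← LinearMap.comp_apply, hg, hn0]
    refine Ideal.Quotient.eq.mp ?_
    exact this.symm
  obtain ⟨m0, hm0⟩ := hmem
  exact nonempty_prod_equiv_of_coprime f g m0 n0 (by rw [hm0, sub_add_cancel])

theorem nonempty_pow_equiv [IsDedekindDomain R] (N : Type v) [AddCommGroup N] [Module R N] [Module.Invertible R N] :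
    ∀ n : ℕ, Nonempty ((Fin (n + 1) → N) ≃ₗ[R] (Fin n → R) × (CommRing.Pic.mk R N ^ (n + 1) : CommRing.Pic R)) := by
  intro n
  induction n with
  | zero =>
    obtain ⟨e⟩ := (CommRing.Pic.mk_eq_iff (R := R) (M := N) (N := (CommRing.Pic.mk R N ^ 1 : CommRing.Pic R))).mp
      (by rw [pow_one])
    exact ⟨LinearEquiv.funUnique (Fin 1) R N ≪≫ₗ e ≪≫ₗ LinearEquiv.uniqueProd.symm⟩
  | succ n ih =>
    obtain ⟨e⟩ := ih
    let P := (CommRing.Pic.mk R N ^ (n + 1) : CommRing.Pic R)
    obtain ⟨e2⟩ := nonempty_prod_equiv (R := R) N P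
    obtain ⟨e3⟩ := (CommRing.Pic.mk_eq_iff (R := R) (M := N ⊗[R] P)
      (N := (CommRing.Pic.mk R N ^ (n + 1 + 1) : CommRing.Pic R))).mp
      (by rw [CommRing.Pic.mk_tensor, CommRing.Pic.mk_eq_self, pow_succ' _ (n + 1)])
    exact ⟨(Fin.consLinearEquiv R (fun _ : Fin (n + 2) => N)).symm ≪≫ₗ
      LinearEquiv.prodCongr (LinearEquiv.refl R N) (e ≪≫ₗ LinearEquiv.prodComm R _ _) ≪≫ₗ
      (LinearEquiv.prodAssoc R N P (Fin n → R)).symm ≪≫ₗ
      LinearEquiv.prodCongr (e2 ≪≫ₗ LinearEquiv.prodCongr (LinearEquiv.refl R R) e3) (LinearEquiv.refl R _) ≪≫ₗ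
      LinearEquiv.prodAssoc R R _ (Fin n → R) ≪≫ₗ
      LinearEquiv.prodCongr (LinearEquiv.refl R R) (LinearEquiv.prodComm R _ _) ≪≫ₗ
      (LinearEquiv.prodAssoc R R (Fin n → R) _).symm ≪≫ₗ
      LinearEquiv.prodCongr (Fin.consLinearEquiv R (fun _ : Fin (n + 1) => R)) (LinearEquiv.refl R _)⟩

end Groth.Agent.Lib.Pic99.Steinitz
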